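import Groth.Agent.Lib.NormSep24.DenseOpen
import Groth.Agent.Lib.ShChart24.Restrict
import Groth.Agent.Lib.AbRigid.SmoothGI

/-!
# Constant sheaves along fibrewise dense opens of schemes smooth outside the open
-/

set_option autoImplicit false

universe u

set_option maxHeartbeats 800000
set_option backward.isDefEq.respectTransparency.types false

open CategoryTheory CategoryTheory.Limits AlgebraicGeometry Opposite TopologicalSpace

namespace Groth.Agent.SncPush9

open Groth.Agent.EtSite Groth.Agent.NormSep24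

variable {X S : Scheme.{u}} (f : X ⟶ S) (U : X.Opens)

theorem exists_chart_point
    (hd : ∀ x : X, x ∈ closure (Set.range U.ι ∩ {y : X | f.base y = f.base x}))
    (hs : ∀ x : X, x ∉ U → ∃ W : X.Opens, x ∈ W ∧ Smooth (W.ι ≫ f))
    (V : X.Etale) (v : V.left) :
    ∃ (Y : X.Etale) (g : Y ⟶ V) (z₀ : ((EtCoh.bc U.ι).obj Y).left) (w : Y.left), g.left w = v ∧
      ∀ A : Set ((EtCoh.bc U.ι).obj Y).left, IsClopen A → z₀ ∈ A →
        ∃ O : Y.left.Opens, w ∈ O ∧ ∀ t, EtStalk.bcFst U.ι Y t ∈ O → t ∈ A := by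
  haveI hVet : AlgebraicGeometry.Etale V.hom := V.prop
  by_cases hv : V.hom v ∈ U
  · obtain ⟨z₀, hz₀, -⟩ := Scheme.Pullback.exists_preimage_pullback (f := V.hom) (g := U.ι) v ⟨_, hv⟩ rfl
    refine ⟨V, 𝟙 V, z₀, v, rfl, fun A hA hzA => ?_⟩
    let p : ((EtCoh.bc U.ι).obj V).left ⟶ V.left := EtStalk.bcFst U.ι V
    haveI : IsOpenImmersion p := inferInstanceAs (IsOpenImmersion (pullback.fst V.hom U.ι))
    refine ⟨⟨p '' A, p.isOpenEmbedding.isOpenMap _ hA.isOpen⟩, ⟨z₀, hzA, hz₀⟩, ?_⟩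
    rintro t ⟨a, ha, hat⟩
    exact p.isOpenEmbedding.injective hat ▸ ha
  · obtain ⟨W, hxW, hW⟩ := hs _ hv
    haveI := hW
    let V₁ : X.Etale := sub V (V.hom ⁻¹ᵁ W)
    let l : V₁.left ⟶ W.toScheme := IsOpenImmersion.lift W.ι V₁.hom (by
      rw [Scheme.Opens.range_ι]
      rintro _ ⟨t, rfl⟩
      exact t.2)
    have hl : l ≫ W.ι = V₁.hom := IsOpenImmersion.lift_fac _ _ _
    haveI : AlgebraicGeometry.Etale (l ≫ W.ι) := by rw [hl]; exact V₁.prop
    haveI : AlgebraicGeometry.Etale l := Etale.of_comp l W.ι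
    let V₁W : W.toScheme.Etale := Scheme.Etale.mk l
    let fW : W.toScheme ⟶ S := W.ι ≫ f
    haveI : Smooth fW := hW
    haveI : GeometricallyReduced fW := Groth.Agent.AbRigid.geometricallyReduced_of_smooth fW
    have hf : ShFlat24.GeomRedFibres fW := ⟨inferInstance, fun K _ k =>
      GeometricallyReduced.geometrically_isReduced (f := fW) k _ _ (IsPullback.of_hasPullback fW k)⟩
    obtain ⟨φ, hφ⟩ := EtStalk.exists_fib V₁W ⟨v, hxW⟩
    obtain ⟨W₂, m, w₂, V', k, hgc, huo, hw, hk, hsm⟩ := ShChart24.exists_chart fW hf _ V₁W φ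
    haveI := hgc
    haveI : Smooth k := hsm inferInstance
    haveI : Surjective k := inferInstance
    haveI : AlgebraicGeometry.Etale W₂.hom := W₂.prop
    let Y : X.Etale := Scheme.Etale.mk (W₂.hom ≫ W.ι)
    have hm : m.left ≫ l = W₂.hom := MorphismProperty.Over.w m
    let g : Y ⟶ V := MorphismProperty.Over.homMk (m.left ≫ (subHom V (V.hom ⁻¹ᵁ W)).left) (by
      show (m.left ≫ (subHom V (V.hom ⁻¹ᵁ W)).left) ≫ V.hom = W₂.hom ≫ W.ι
      rw [← hm]
      erw [Category.assoc, Category.assoc, MorphismProperty.Over.w, hl])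
    let k' : Y.left ⟶ V'.left := k
    have hkY : k' ≫ V'.hom = Y.hom ≫ f := hk.trans (Category.assoc _ _ _).symm
    haveI : Surjective k' := ‹Surjective k›
    haveI : Smooth k' := ‹Smooth k›
    haveI : GeometricallyConnected k' := hgc
    haveI := ShChart24.surjective_restrict f U.ι hd k' hkY
    haveI : IsOpenImmersion (EtStalk.bcFst U.ι Y) := inferInstanceAs (IsOpenImmersion (pullback.fst Y.hom U.ι))
    haveI := ShChart24.geometricallyConnected_restrict k' (EtStalk.bcFst U.ι Y)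
    haveI : UniversallyOpen (EtStalk.bcFst U.ι Y ≫ k') := inferInstance
    let w : Y.left := EtStalk.fibPt (U := W₂) w₂
    obtain ⟨z₀, hz₀⟩ := (inferInstance : Surjective (EtStalk.bcFst U.ι Y ≫ k')).surj (k' w)
    refine ⟨Y, g, z₀, w, ?_, fun A hA hzA => ?_⟩
    · show (m.left ≫ (subHom V (V.hom ⁻¹ᵁ W)).left) w = v
      have h1 : m.left w = EtStalk.fibPt φ := (Scheme.Hom.comp_apply _ _ _).symm.trans
        (congrArg (fun t : Spec (CommRingCat.of (SeparableClosure (W.toScheme.residueField (V₁W.hom ⟨v, hxW⟩)))) ⟶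
          V₁W.left => t (default : Spec (CommRingCat.of (SeparableClosure (W.toScheme.residueField (V₁W.hom ⟨v, hxW⟩)))))) hw)
      rw [Scheme.Hom.comp_apply, h1]
      exact congrArg (subHom V (V.hom ⁻¹ᵁ W)).left hφ
    · refine ⟨⟨k' ⁻¹' ((EtStalk.bcFst U.ι Y ≫ k') '' A),
        ((EtStalk.bcFst U.ι Y ≫ k').isOpenMap _ hA.isOpen).preimage k'.continuous⟩, ⟨z₀, hzA, hz₀⟩, ?_⟩
      rintro t ⟨a, ha, hat⟩
      refine ((EtStalk.bcFst U.ι Y ≫ k').isConnected_preimage_singleton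
        ((EtStalk.bcFst U.ι Y ≫ k') a)).isPreconnected.subset_isClopen hA ⟨a, rfl, ha⟩ ?_
      show (EtStalk.bcFst U.ι Y ≫ k') t = (EtStalk.bcFst U.ι Y ≫ k') a
      rw [hat, Scheme.Hom.comp_apply]

/-- The unit of the open for a constant sheaf is an isomorphism. -/
theorem isIso_toPush_of (M : Type) [AddCommGroup M]
    (hd : ∀ x : X, x ∈ closure (Set.range U.ι ∩ {y : X | f.base y = f.base x}))
    (hs : ∀ x : X, x ∉ U → ∃ W : X.Opens, x ∈ W ∧ Smooth (W.ι ≫ f)) :
    IsIso (toPush M U.ι) := by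
  have hdense : Dense (Set.range U.ι) := fun x => closure_mono Set.inter_subset_left (hd x)
  have hdV : ∀ V : X.Etale, Dense (Set.range (EtStalk.bcFst U.ι V)) := fun V => by
    rw [range_bcFst]
    let g : V.left ⟶ X := V.hom
    haveI : AlgebraicGeometry.Etale g := V.prop
    exact hdense.preimage g.isOpenMap
  refine (Sheaf.isLocallyBijective_iff_isIso (toPush M U.ι)).mp ⟨⟨fun {V} s t hst => ?_⟩, ⟨fun {V} s => ?_⟩⟩
  · rw [mem_et_iff]
    intro v
    obtain ⟨V⟩ := V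
    obtain ⟨Y₁, f₁, m₁, ⟨y₁, hy₁⟩, h₁⟩ := exists_value M V s v
    obtain ⟨Y₂, f₂, m₂, ⟨y₂, hy₂⟩, h₂⟩ := exists_value M V t v
    obtain ⟨P, p₁, p₂, w, hp, hw₁, -⟩ := exists_common f₁ f₂ y₁ y₂ (hy₁.trans hy₂.symm)
    refine ⟨P, p₁ ≫ f₁, w, ?_, (congrArg f₁.left hw₁).trans hy₁⟩
    show (EtCoh.const X M).obj.map (p₁ ≫ f₁).op s = (EtCoh.const X M).obj.map (p₁ ≫ f₁).op t
    have e₁ : (EtCoh.const X M).obj.map (p₁ ≫ f₁).op s = cst M P m₁ := by
      rw [← res_res, ← h₁, cst_res]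
    have e₂ : (EtCoh.const X M).obj.map (p₁ ≫ f₁).op t = cst M P m₂ := by
      rw [hp, ← res_res, ← h₂, cst_res]
    rw [e₁, e₂]
    refine congrArg (cst M P) (cst_injective M ((EtCoh.bc U.ι).obj P) ?_ ?_)
    · obtain ⟨_, ⟨z, rfl⟩, -⟩ := (hdV P).inter_open_nonempty Set.univ isOpen_univ ⟨w, trivial⟩ |>.imp
        fun x hx => And.intro hx.2 hx.1
      exact ⟨z⟩
    · rw [← toPush_cst, ← toPush_cst, ← e₁, ← e₂]
      refine (NatTrans.naturality_apply (toPush M U.ι).hom (p₁ ≫ f₁).op s).trans (Eq.trans ?_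
        (NatTrans.naturality_apply (toPush M U.ι).hom (p₁ ≫ f₁).op t).symm)
      exact congrArg _ hst
  · rw [mem_et_iff]
    intro v
    obtain ⟨Y, g, z₀, w, hwv, hA⟩ := exists_chart_point f U hd hs V v
    let T := (EtCoh.bc U.ι).obj Y
    let sY : (EtCoh.const U.toScheme M).obj.obj (op T) :=
      (EtCoh.const U.toScheme M).obj.map ((EtCoh.bc U.ι).map g).op s
    choose Z h m hz hm using exists_value M T sY
    let As : Set T.left := ⋃ z ∈ {z | m z = m z₀}, Set.range (h z).left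
    let Cs : Set T.left := ⋃ z ∈ {z | m z ≠ m z₀}, Set.range (h z).left
    have hAC : Csᶜ = As := by
      ext z
      constructor
      · intro hzC
        by_cases hh : m z = m z₀
        · exact Set.mem_biUnion hh (hz z)
        · exact absurd (Set.mem_biUnion (s := {z | m z ≠ m z₀}) hh (hz z)) hzC
      · intro hzA hzC
        obtain ⟨a, ha, ha'⟩ := Set.mem_iUnion₂.1 hzA
        obtain ⟨c, hc, hc'⟩ := Set.mem_iUnion₂.1 hzC
        exact hc ((value_unique M (h c) (h a) _ _ sY (hm c) (hm a) hc' ha').trans ha)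
    have hAs : IsClopen As := ⟨by rw [← hAC]; exact (isOpen_biUnion fun z _ => isOpen_range_left (h z)).isClosed_compl,
      isOpen_biUnion fun z _ => isOpen_range_left (h z)⟩
    obtain ⟨O, hwO, hO⟩ := hA As hAs (Set.mem_biUnion (s := {z | m z = m z₀}) rfl (hz z₀))
    refine ⟨sub Y O, subHom Y O ≫ g, ⟨w, hwO⟩, ⟨cst M (sub Y O) (m z₀), ?_⟩, hwv⟩
    rw [toPush_cst]
    let b : (EtCoh.bc U.ι).obj (sub Y O) ⟶ T := (EtCoh.bc U.ι).map (subHom Y O)
    show cst M _ (m z₀) = (EtCoh.const U.toScheme M).obj.map ((EtCoh.bc U.ι).map (subHom Y O ≫ g)).op s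
    rw [Functor.map_comp, ← res_res]
    show cst M _ (m z₀) = (EtCoh.const U.toScheme M).obj.map b.op sY
    have hbp : ∀ t, EtStalk.bcFst U.ι Y (b.left t) ∈ O := fun t => by
      have h : b.left ≫ EtStalk.bcFst U.ι Y = EtStalk.bcFst U.ι (sub Y O) ≫ (subHom Y O).left :=
        (EtCoh.isPullback_bc_map U.ι (subHom Y O)).w
      rw [← Scheme.Hom.comp_apply, h, Scheme.Hom.comp_apply]
      exact (EtStalk.bcFst U.ι (sub Y O) t).2
    have : ∀ t, ∃ z, m z = m z₀ ∧ b.left t ∈ Set.range (h z).left := fun t => by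
      obtain ⟨z, h1, h2⟩ := Set.mem_iUnion₂.1 (hO _ (hbp t))
      exact ⟨z, h1, h2⟩
    choose zt hzt hbt using this
    choose yt hyt using hbt
    choose P q₁ q₂ w' hq hw₁ hw₂ using fun t => exists_common b (h (zt t)) t (yt t) (hyt t).symm
    refine sect_ext (EtCoh.const U.toScheme M) P q₁ (fun t => ⟨t, w' t, hw₁ t⟩) fun t => ?_
    rw [cst_res, res_res, hq t, ← res_res, ← hm, cst_res, hzt t]

end Groth.Agent.SncPush9
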