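import Groth.Prelude.Def_SGA1t
import Groth.Agent.Lib.CMChart4

/-!
# Complements of relative strict normal crossings divisors are fibrewise dense
-/

set_option autoImplicit false

universe u

open CategoryTheory CategoryTheory.Limits AlgebraicGeometry MvPolynomial

namespace Groth.Agent.SncPush9

theorem genericPoint_mem_basicOpen_coord (K : Type u) [Field K] {n : Type u} (i : n) :
    genericPoint (𝔸(n; Spec (CommRingCat.of K)) : Scheme.{u}) ∈
      (𝔸(n; Spec (CommRingCat.of K)) : Scheme.{u}).basicOpen (AffineSpace.coord _ i) := by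
  let A : Scheme.{u} := 𝔸(n; Spec (CommRingCat.of K))
  have hne : AffineSpace.coord (Spec (CommRingCat.of K)) i ≠ 0 := by
    intro h0
    have h1 := AffineSpace.SpecIso_inv_appTop_coord (n := n) (CommRingCat.of K) i
    rw [h0, map_zero] at h1
    have h2 := congrArg (Scheme.ΓSpecIso (CommRingCat.of (MvPolynomial n K))).hom h1
    rw [map_zero, Iso.inv_hom_id_apply] at h2
    exact MvPolynomial.X_ne_zero i h2.symm
  have hb : A.basicOpen (AffineSpace.coord _ i) ≠ ⊥ := fun h => hne ((basicOpen_eq_bot_iff _).1 h)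
  refine ((genericPoint_spec A).mem_open_set_iff (A.basicOpen _).isOpen).2 ?_
  rw [Set.univ_inter]
  by_contra h
  exact hb (TopologicalSpace.Opens.ext (Set.not_nonempty_iff_eq_empty.1 h))

variable {X S : Scheme.{u}} (f : X ⟶ S) {r : ℕ} (φ : Fin r → Γ(X, ⊤))

theorem mem_compl_iff (x : X) : x ∈ SGA1t.compl φ ↔ ∀ i, x ∈ X.basicOpen (φ i) := by
  simp only [SGA1t.compl, Scheme.mem_basicOpen_top, map_prod, IsUnit.prod_iff, Finset.mem_univ, true_implies]

theorem exists_smooth_nhd (hD : SGA1t.IsRelSNC f φ) (x : X) (hx : x ∉ SGA1t.compl φ) :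
    ∃ W : X.Opens, x ∈ W ∧ Smooth (W.ι ≫ f) := by
  rw [mem_compl_iff] at hx
  push Not at hx
  obtain ⟨i, hi⟩ := hx
  obtain ⟨W, hxW, d, v, e, -, hE, -⟩ := hD x ⟨⟨i, hi⟩⟩
  refine ⟨W, hxW, ?_⟩
  haveI := hE
  haveI : Smooth (AffineSpace.homOfVector (W.ι ≫ f) v) := inferInstance
  rw [← AffineSpace.homOfVector_over (W.ι ≫ f) v]
  exact MorphismProperty.comp_mem @Smooth _ _ inferInstance inferInstance

theorem meets_compl (hD : SGA1t.IsRelSNC f φ) {K : Type u} [Field K] (q : Spec (CommRingCat.of K) ⟶ S)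
    {P : Scheme.{u}} (p : P ⟶ X) (s : P ⟶ Spec (CommRingCat.of K)) (sq : IsPullback p s f q)
    (N : Set P) (hN : IsOpen N) (hne : N.Nonempty) : ∃ z ∈ N, p z ∈ SGA1t.compl φ := by
  classical
  obtain ⟨z₀, hz₀⟩ := hne
  by_cases hx : p z₀ ∈ SGA1t.compl φ
  · exact ⟨z₀, hz₀, hx⟩
  rw [mem_compl_iff] at hx
  push Not at hx
  obtain ⟨i₀, hi₀⟩ := hx
  obtain ⟨W, hxW, d, v, e, -, hE, hv⟩ := hD (p z₀) ⟨⟨i₀, hi₀⟩⟩
  haveI := hE
  let n := ULift.{u} (Fin d)
  let E := AffineSpace.homOfVector (W.ι ≫ f) v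
  haveI : AlgebraicGeometry.Etale E := hE
  let a := pullback.fst E (AffineSpace.map n q)
  let b := pullback.snd E (AffineSpace.map n q)
  haveI : AlgebraicGeometry.Etale b :=
    inferInstanceAs (AlgebraicGeometry.Etale (pullback.snd E (AffineSpace.map n q)))
  have sqQ : IsPullback a (b ≫ 𝔸(n; Spec (CommRingCat.of K)) ↘ Spec (CommRingCat.of K)) (W.ι ≫ f) q := by
    have := (IsPullback.of_hasPullback E (AffineSpace.map n q)).paste_vert (AffineSpace.isPullback_map (n := n) q)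
    rwa [AffineSpace.homOfVector_over] at this
  let ρ := sq.lift (a ≫ W.ι) (b ≫ 𝔸(n; Spec (CommRingCat.of K)) ↘ Spec (CommRingCat.of K))
    (by rw [Category.assoc]; exact sqQ.w)
  have sqT : IsPullback a ρ W.ι p :=
    IsPullback.of_bot (by rw [sq.lift_snd]; exact sqQ) (sq.lift_fst _ _ _).symm sq
  haveI : IsOpenImmersion ρ := MorphismProperty.of_isPullback sqT (inferInstanceAs (IsOpenImmersion W.ι))
  obtain ⟨c, hc₁, hc₂⟩ := Scheme.Pullback.exists_preimage_pullback (f := W.ι) (g := p) ⟨p z₀, hxW⟩ z₀ rfl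
  let O : Set X := ⋂ i ∈ {i : Fin r | p z₀ ∈ X.basicOpen (φ i)}, (X.basicOpen (φ i) : Set X)
  have hO : IsOpen O := (Set.toFinite _).isOpen_biInter fun i _ => (X.basicOpen (φ i)).isOpen
  let N' : Set ↥(pullback E (AffineSpace.map n q)) := ρ ⁻¹' (N ∩ p ⁻¹' O)
  have hN' : IsOpen N' := (hN.inter (hO.preimage p.continuous)).preimage ρ.continuous
  have hmem : sqT.isoPullback.inv c ∈ N' := by
    have h1 : ρ (sqT.isoPullback.inv c) = z₀ := by
      rw [← Scheme.Hom.comp_apply, sqT.isoPullback_inv_snd]; exact hc₂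
    show ρ (sqT.isoPullback.inv c) ∈ N ∩ p ⁻¹' O
    rw [h1]
    exact ⟨hz₀, Set.mem_iInter₂.2 fun i hi => hi⟩
  obtain ⟨y, hy, hyη⟩ : genericPoint (𝔸(n; Spec (CommRingCat.of K)) : Scheme.{u}) ∈ b '' N' := by
    refine ((genericPoint_spec _).mem_open_set_iff (b.isOpenMap _ hN')).2 ?_
    rw [Set.univ_inter]
    exact ⟨_, _, hmem, rfl⟩
  refine ⟨ρ y, hy.1, (mem_compl_iff φ _).2 fun i => ?_⟩
  by_cases hi : p z₀ ∈ X.basicOpen (φ i)
  · exact Set.mem_iInter₂.1 hy.2 i hi
  · let j : n := ULift.up (e ⟨i, hi⟩)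
    have h1 : b y ∈ (AffineSpace.map n q) ⁻¹ᵁ (𝔸(n; S) : Scheme.{u}).basicOpen (AffineSpace.coord S j) := by
      rw [Scheme.preimage_basicOpen_top, AffineSpace.map_appTop_coord, hyη]
      exact genericPoint_mem_basicOpen_coord K j
    have h2 : a y ∈ E ⁻¹ᵁ (𝔸(n; S) : Scheme.{u}).basicOpen (AffineSpace.coord S j) := by
      show E (a y) ∈ (𝔸(n; S) : Scheme.{u}).basicOpen (AffineSpace.coord S j)
      rw [← Scheme.Hom.comp_apply, show a ≫ E = b ≫ AffineSpace.map n q from pullback.condition,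
        Scheme.Hom.comp_apply]
      exact h1
    rw [Scheme.preimage_basicOpen_top, AffineSpace.homOfVector_appTop_coord, hv ⟨i, hi⟩] at h2
    have h3 : a y ∈ W.ι ⁻¹ᵁ X.basicOpen (φ i) := by
      rw [Scheme.preimage_basicOpen_top]
      convert h2 using 3
      rw [Scheme.Opens.ι_appTop]
      simp only [Scheme.Opens.topIso]
      erw [← CommRingCat.comp_apply, ← Functor.map_comp]
      rfl
    rw [← Scheme.Hom.comp_apply, ← sqT.w, Scheme.Hom.comp_apply]
    exact h3

theorem fibre_dense (hD : SGA1t.IsRelSNC f φ) (x : X) :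
    x ∈ closure (Set.range (SGA1t.compl φ).ι ∩ {y : X | f.base y = f.base x}) := by
  rw [mem_closure_iff]
  intro O hO hxO
  let q := S.fromSpecResidueField (f x)
  obtain ⟨z, hz, -⟩ := Scheme.Pullback.exists_preimage_pullback (f := f) (g := q) x default
    (Scheme.fromSpecResidueField_apply _ _).symm
  obtain ⟨z', hz', hU⟩ := meets_compl f φ hD (K := S.residueField (f x)) q _ _
    (IsPullback.of_hasPullback f q) (pullback.fst f q ⁻¹' O) (hO.preimage (pullback.fst f q).continuous)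
    ⟨z, show pullback.fst f q z ∈ O by rw [hz]; exact hxO⟩
  refine ⟨pullback.fst f q z', hz', ?_, ?_⟩
  · rw [Scheme.Opens.range_ι]; exact hU
  · show f (pullback.fst f q z') = f x
    rw [← Scheme.Hom.comp_apply, pullback.condition, Scheme.Hom.comp_apply]
    exact Scheme.fromSpecResidueField_apply _ _

theorem fibre_dense_bc (hD : SGA1t.IsRelSNC f φ) {S' : Scheme.{u}} (h : S' ⟶ S) (x : ↥(pullback f h)) :
    x ∈ closure (Set.range (pullback.fst f h ⁻¹ᵁ SGA1t.compl φ).ι ∩
      {y : ↥(pullback f h) | (pullback.snd f h).base y = (pullback.snd f h).base x}) := by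
  rw [mem_closure_iff]
  intro O hO hxO
  let q := S'.fromSpecResidueField (pullback.snd f h x)
  obtain ⟨z, hz, -⟩ := Scheme.Pullback.exists_preimage_pullback (f := pullback.snd f h) (g := q) x default
    (Scheme.fromSpecResidueField_apply _ _).symm
  let p' := pullback.fst (pullback.snd f h) q
  obtain ⟨z', hz', hU⟩ := meets_compl f φ hD (K := S'.residueField (pullback.snd f h x)) (q ≫ h) _ _
    ((IsPullback.of_hasPullback (pullback.snd f h) q).paste_horiz (IsPullback.of_hasPullback f h))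
    (p' ⁻¹' O) (hO.preimage p'.continuous)
    ⟨z, show p' z ∈ O by rw [show p' z = x from hz]; exact hxO⟩
  refine ⟨p' z', hz', ?_, ?_⟩
  · rw [Scheme.Opens.range_ι]
    show pullback.fst f h (p' z') ∈ SGA1t.compl φ
    rw [← Scheme.Hom.comp_apply]; exact hU
  · show pullback.snd f h (p' z') = pullback.snd f h x
    rw [← Scheme.Hom.comp_apply, pullback.condition, Scheme.Hom.comp_apply]
    exact Scheme.fromSpecResidueField_apply _ _

theorem exists_smooth_nhd_bc (hD : SGA1t.IsRelSNC f φ) {S' : Scheme.{u}} (h : S' ⟶ S) (x : ↥(pullback f h))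
    (hx : x ∉ pullback.fst f h ⁻¹ᵁ SGA1t.compl φ) :
    ∃ W : (pullback f h).Opens, x ∈ W ∧ Smooth (W.ι ≫ pullback.snd f h) := by
  obtain ⟨W, hxW, hW⟩ := exists_smooth_nhd f φ hD (pullback.fst f h x) hx
  exact ⟨pullback.fst f h ⁻¹ᵁ W, hxW, MorphismProperty.of_isPullback
    ((isPullback_morphismRestrict (pullback.fst f h) W).paste_vert (IsPullback.of_hasPullback f h)) hW⟩

end Groth.Agent.SncPush9
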