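import Groth.Agent.Lib.SncPush9.Criterion
import Groth.Agent.Lib.SncPush9.Dense
import Groth.Agent.Lib.EtStalk.FiniteBC
import Groth.Agent.Lib.Constr24.Noeth
import Groth.Agent.Lib.LocConst24.Const
import Groth.Agent.Lib.ExtShriek24.Constructible

/-!
# Direct images of constant sheaves from complements of relative normal crossings divisors
-/

set_option autoImplicit false

universe u

set_option maxHeartbeats 800000
set_option backward.isDefEq.respectTransparency.types false

open CategoryTheory CategoryTheory.Limits AlgebraicGeometry Opposite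

namespace Groth.Agent.SncPush9

open Groth.Agent.EtSite Groth.Agent.NormSep24

variable (M : Type) [AddCommGroup M]

theorem hom_ext_top {X : Scheme.{u}} {H : EtCoh.Ab X} (a b : EtCoh.const X M ⟶ H)
    (h : ∀ m, a.hom.app (op (EtCoh.top X)) (cst M (EtCoh.top X) m) =
      b.hom.app (op (EtCoh.top X)) (cst M (EtCoh.top X) m)) : a = b := by
  apply ((EtCore.constAdj X).homEquiv (AddCommGrpCat.of (ULift.{u + 1} M)) H).injective
  rw [Adjunction.homEquiv_unit, Adjunction.homEquiv_unit]
  ext m
  exact h m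

theorem toPush_comp_baseChange0 {X U X' U' : Scheme.{u}} (i : U ⟶ X) (g : X' ⟶ X) (i' : U' ⟶ X')
    (g' : U' ⟶ U) (w : g' ≫ i = i' ≫ g) :
    (EtCore.pullConst g M).inv ≫ (EtCoh.pull g).map (toPush M i) ≫
      EtCoh.baseChange0 i g i' g' w (EtCoh.const U M) ≫ (EtCoh.push i').map (EtCore.pullConst g' M).hom =
      toPush M i' := by
  refine hom_ext_top M _ _ fun m => ?_
  let T := (EtCoh.bc g).obj (EtCoh.top X)
  let e : EtCoh.top X' ⟶ T := (EtCore.bcTopIso g).inv
  suffices key : ((EtCore.pullConst g M).inv ≫ (EtCoh.pull g).map (toPush M i) ≫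
      EtCoh.baseChange0 i g i' g' w (EtCoh.const U M) ≫ (EtCoh.push i').map (EtCore.pullConst g' M).hom).hom.app
        (op T) (cst M T m) = (toPush M i').hom.app (op T) (cst M T m) by
    rw [← cst_res M e]
    exact (NatTrans.naturality_apply _ e.op (cst M T m)).trans
      ((congrArg (((EtCoh.push i').obj (EtCoh.const U' M)).obj.map e.op) key).trans
        (NatTrans.naturality_apply (toPush M i').hom e.op (cst M T m)).symm)
  rw [toPush_cst]
  have h1 : (EtCore.pullConst g M).inv.hom.app (op T) (cst M T m) =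
      ((EtCoh.pullPushAdj g).unit.app (EtCoh.const X M)).hom.app (op (EtCoh.top X)) (cst M (EtCoh.top X) m) := by
    refine (congrArg ((EtCore.pullConst g M).inv.hom.app (op T)) (toPush_cst M g (EtCoh.top X) m).symm).trans ?_
    exact ConcreteCategory.congr_hom
      (congrArg (fun a => a.hom.app (op T)) (EtCore.pullConst g M).hom_inv_id) _
  have h2 : ((EtCoh.pull g).map (toPush M i)).hom.app (op T)
      (((EtCoh.pullPushAdj g).unit.app (EtCoh.const X M)).hom.app (op (EtCoh.top X)) (cst M (EtCoh.top X) m)) =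
      ((EtCoh.pullPushAdj g).unit.app ((EtCoh.push i).obj (EtCoh.const U M))).hom.app (op (EtCoh.top X))
        (cst M ((EtCoh.bc i).obj (EtCoh.top X)) m) := by
    rw [← toPush_cst M i (EtCoh.top X) m]
    exact (ConcreteCategory.congr_hom (congrArg (fun a => a.hom.app (op (EtCoh.top X)))
      ((EtCoh.pullPushAdj g).unit.naturality (toPush M i))) (cst M (EtCoh.top X) m)).symm
  show ((EtCoh.push i').map (EtCore.pullConst g' M).hom).hom.app (op T)
    ((EtCoh.baseChange0 i g i' g' w (EtCoh.const U M)).hom.app (op T)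
      (((EtCoh.pull g).map (toPush M i)).hom.app (op T) ((EtCore.pullConst g M).inv.hom.app (op T) (cst M T m)))) = _
  rw [h1, h2, EtStalk.baseChange0_germ]
  refine (NatTrans.naturality_apply (EtCore.pullConst g' M).hom.hom
    (EtStalk.sqHom i g i' g' w (EtCoh.top X)).op _).trans ?_
  refine (congrArg ((EtCoh.const U' M).obj.map (EtStalk.sqHom i g i' g' w (EtCoh.top X)).op)
    (toPush_cst M g' ((EtCoh.bc i).obj (EtCoh.top X)) m)).trans ?_
  exact cst_res M _ m

variable {X S : Scheme.{u}} (f : X ⟶ S) {r : ℕ} (φ : Fin r → Γ(X, ⊤))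

theorem isIso_toPush_compl (hD : SGA1t.IsRelSNC f φ) : IsIso (toPush M (SGA1t.compl φ).ι) :=
  isIso_toPush_of f _ M (fibre_dense f φ hD) (exists_smooth_nhd f φ hD)

theorem isIso_toPush_compl_bc (hD : SGA1t.IsRelSNC f φ) {S' : Scheme.{u}} (h : S' ⟶ S) :
    IsIso (toPush M (pullback.fst f h ⁻¹ᵁ SGA1t.compl φ).ι) :=
  isIso_toPush_of (pullback.snd f h) _ M (fibre_dense_bc f φ hD h) (exists_smooth_nhd_bc f φ hD h)

theorem isConstructible_push_compl [Finite M] (hD : SGA1t.IsRelSNC f φ) :
    EtPBC.IsConstructible ((EtCoh.push (SGA1t.compl φ).ι).obj (EtCoh.const (SGA1t.compl φ : Scheme.{u}) M)) := by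
  haveI := isIso_toPush_compl M f φ hD
  exact ExtShriek24.isConstructible_iso' (asIso (toPush M (SGA1t.compl φ).ι))
    (Constr24.isConstructible_of_flc (LocConst24.flc_const _ M))

theorem isIso_baseChange0_compl (hD : SGA1t.IsRelSNC f φ) {S' : Scheme.{u}} (h : S' ⟶ S) :
    IsIso (EtCoh.baseChange0 (SGA1t.compl φ).ι (pullback.fst f h) ((pullback.fst f h ⁻¹ᵁ SGA1t.compl φ).ι)
      (pullback.fst f h ∣_ SGA1t.compl φ) (morphismRestrict_ι (pullback.fst f h) (SGA1t.compl φ))
      (EtCoh.const (SGA1t.compl φ : Scheme.{u}) M)) := by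
  haveI := isIso_toPush_compl M f φ hD
  haveI := isIso_toPush_compl_bc M f φ hD h
  let a := (EtCore.pullConst (pullback.fst f h) M).inv
  let b := (EtCoh.pull (pullback.fst f h)).map (toPush M (SGA1t.compl φ).ι)
  let c := EtCoh.baseChange0 (SGA1t.compl φ).ι (pullback.fst f h) ((pullback.fst f h ⁻¹ᵁ SGA1t.compl φ).ι)
      (pullback.fst f h ∣_ SGA1t.compl φ) (morphismRestrict_ι (pullback.fst f h) (SGA1t.compl φ))
      (EtCoh.const (SGA1t.compl φ : Scheme.{u}) M)
  let d := (EtCoh.push (pullback.fst f h ⁻¹ᵁ SGA1t.compl φ).ι).map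
    (EtCore.pullConst (pullback.fst f h ∣_ SGA1t.compl φ) M).hom
  haveI : IsIso (a ≫ b ≫ c ≫ d) := by
    rw [toPush_comp_baseChange0]; infer_instance
  haveI : IsIso (b ≫ c ≫ d) := IsIso.of_isIso_comp_left a _
  haveI : IsIso (c ≫ d) := IsIso.of_isIso_comp_left b _
  exact IsIso.of_isIso_comp_right c d

end Groth.Agent.SncPush9
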